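import Cfsg.Agent.H531.MB.SieveB
import Cfsg.Agent.H715.Mon.Exact
import Cfsg.Agent.H995.IMBRow
import Cfsg.Agent.S3331
import Cfsg.Agent.SmallSimple.InvolColumn

/-!
# S4884, row (B, 3), box P3 (helper578): degrees modulo 19 and the end arithmetic

* `mod19` : `χ(1) ≡ 0, ±1` modulo `19` for the irreducible characters of the Baby Monster;
* `exists_of_mult`, `exists_of_char` : if all constituents `ψ` of a character of degree `356054375` satisfy
  `ψ(t) / ψ(1) = -111881 / 20944375` at an involution `t`, one of them has degree `356054375`.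
-/

set_option autoImplicit false
set_option maxRecDepth 100000

open Cfsg Subgroup

namespace Cfsg.Agent.H578.BM

open Cfsg.Agent.Characters.Core

universe u

variable {S : Type u} [Group S]

theorem facts (h : Spor.IsoB S) : Finite S ∧ IsSimpleGroup S ∧ ¬ IsMulCommutative S := by
  have hcard := Cfsg.Agent.H995.IMB.card_of h
  have hfin : Finite S := Nat.finite_of_card_ne_zero (by rw [hcard]; norm_num)
  have hs : IsSimpleGroup S := by
    obtain ⟨e⟩ := h
    have hB : Cfsg.IsB Cfsg.Spor.BabyMonster := Cfsg.Agent.BM.KHAll.isB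
    have := hB.1
    exact e.isSimpleGroup
  refine ⟨hfin, hs, fun h1 => ?_⟩
  let _ : CommGroup S := { (inferInstance : Group S) with mul_comm := h1.is_comm.comm }
  have h2 := IsSimpleGroup.prime_card (α := S)
  rw [hcard] at h2
  norm_num at h2

/-- **The degrees of the Baby Monster modulo `19`.** -/
theorem mod19 (h : Spor.IsoB S) (χ : IrrCharacter S) :
    charDegree (χ : S → ℂ) % 19 = 0 ∨ charDegree (χ : S → ℂ) % 19 = 1 ∨ charDegree (χ : S → ℂ) % 19 = 18 := by
  obtain ⟨hfin, hs, hna⟩ := facts h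
  have hcard := Cfsg.Agent.H995.IMB.card_of h
  have h19 : Fact (Nat.Prime 19) := ⟨by norm_num⟩
  obtain ⟨x, hx⟩ := exists_prime_orderOf_dvd_card' (G := S) 19 (by rw [hcard]; norm_num)
  have hc := Cfsg.Agent.H715.Mon.Exact.B.cent19 (fun _ _ _ X hX hC => S3331.result X hX hC) h hx
  have h1 := Cfsg.Agent.H531.MB.residue hna (by norm_num) hcard hx (k := 2) hc 18 1 [(0, 0), (1, 1), (18, -1)]
    (by decide +kernel) χ
  simpa using h1

theorem arith19 (k : ℕ) (h9 : k ≤ 17)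
    (h : 20944375 * k % 19 = 0 ∨ 20944375 * k % 19 = 1 ∨ 20944375 * k % 19 = 18) : k = 0 ∨ k = 2 ∨ k = 17 := by
  interval_cases k <;> omega

/-- **The end arithmetic.** -/
theorem exists_of_mult (h : Spor.IsoB S) [Fintype (IrrCharacter S)] {t : S} (ht : t ^ 2 = 1)
    (m : IrrCharacter S → ℕ)
    (h1 : ∀ ψ : IrrCharacter S, m ψ ≠ 0 → (ψ : S → ℂ) t * 20944375 = -111881 * (ψ : S → ℂ) 1)
    (h2 : ∑ ψ, m ψ * charDegree (ψ : S → ℂ) = 356054375) :
    ∃ χ : IrrCharacter S, charDegree (χ : S → ℂ) = 356054375 ∧ m χ ≠ 0 := by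
  have key : ∀ ψ : IrrCharacter S, m ψ ≠ 0 → ∃ k : ℕ, charDegree (ψ : S → ℂ) = 20944375 * k ∧ k ≤ 17 ∧
      (k = 0 ∨ k = 2 ∨ k = 17) := by
    intro ψ hψ
    obtain ⟨n, z, hn, hz, -, -⟩ := SmallSimple.InvolColumn.exists_int_of_char (isIrr_isCharacter ψ.2) ht
    have hd := Cfsg.Agent.Blocks.Basic.irr_one_eq_charDegree ψ.2
    have hnd : n = charDegree (ψ : S → ℂ) := by
      rw [hn] at hd; exact_mod_cast hd
    have h3 := h1 ψ hψ
    rw [hz, hn] at h3
    have h4 : z * 20944375 = -111881 * (n : ℤ) := by exact_mod_cast h3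
    have h5 : (20944375 : ℤ) ∣ (n : ℤ) := by
      have h6 : (20944375 : ℤ) ∣ 111881 * (n : ℤ) := ⟨-z, by linarith⟩
      exact IsCoprime.dvd_of_dvd_mul_left (by rw [Int.isCoprime_iff_gcd_eq_one]; norm_num) h6
    have h6 : 20944375 ∣ n := by exact_mod_cast h5
    obtain ⟨k, hk⟩ := h6
    have h7 : m ψ * charDegree (ψ : S → ℂ) ≤ 356054375 := by
      rw [← h2]
      exact Finset.single_le_sum (f := fun ψ : IrrCharacter S => m ψ * charDegree (ψ : S → ℂ))
        (fun _ _ => Nat.zero_le _) (Finset.mem_univ ψ)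
    have h8 : charDegree (ψ : S → ℂ) ≤ 356054375 :=
      (Nat.le_mul_of_pos_left _ (Nat.pos_of_ne_zero hψ)).trans h7
    rw [← hnd, hk] at h8
    have h9 : k ≤ 17 := by omega
    have h10 := mod19 h ψ
    rw [← hnd, hk] at h10
    refine ⟨k, by rw [← hnd, hk], h9, ?_⟩
    exact arith19 k h9 h10
  by_contra hno
  push Not at hno
  have h3 : ∀ ψ : IrrCharacter S, 2 ∣ m ψ * charDegree (ψ : S → ℂ) := by
    intro ψ
    by_cases hψ : m ψ = 0
    · rw [hψ, zero_mul]
      exact dvd_zero _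
    · obtain ⟨k, hk, -, rfl | rfl | rfl⟩ := key ψ hψ
      · rw [hk, mul_zero, mul_zero]
        exact dvd_zero _
      · rw [hk]
        exact Dvd.dvd.mul_left (Dvd.intro_left _ rfl) _
      · exact absurd (hno ψ (by rw [hk])) hψ
  have h4 : 2 ∣ ∑ ψ : IrrCharacter S, m ψ * charDegree (ψ : S → ℂ) := Finset.dvd_sum fun ψ _ => h3 ψ
  rw [h2] at h4
  norm_num at h4

/-- The end arithmetic for a character `Ψ`. -/
theorem exists_of_char (h : Spor.IsoB S) [Fintype S] {t : S} (ht : t ^ 2 = 1) {Ψ : S → ℂ} (hΨ : IsCharacter S Ψ)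
    (h0 : Ψ 1 = 356054375) (h0t : Ψ t = -1901977)
    (h1 : ∀ ψ : S → ℂ, IsIrrCharacter S ψ → classInner Ψ ψ ≠ 0 → ψ t * Ψ 1 = Ψ t * ψ 1) :
    ∃ χ : IrrCharacter S, charDegree (χ : S → ℂ) = 356054375 := by
  classical
  obtain ⟨hfin, hs, hna⟩ := facts h
  have : Finite (IrrCharacter S) := finite_irr
  have := Fintype.ofFinite (IrrCharacter S)
  obtain ⟨m, hm⟩ := exists_nat_comb hΨ
  have hin : ∀ ψ : IrrCharacter S, classInner Ψ (ψ : S → ℂ) = m ψ := by
    intro ψ
    rw [hm]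
    exact classInner_sum_nsmul_irr _ _
  have hA : ∀ ψ : IrrCharacter S, m ψ ≠ 0 → (ψ : S → ℂ) t * 20944375 = -111881 * (ψ : S → ℂ) 1 := by
    intro ψ hψ
    have h2 := h1 ψ ψ.2 (by rw [hin]; exact_mod_cast hψ)
    rw [h0, h0t] at h2
    have h3 : (17 : ℂ) ≠ 0 := by norm_num
    refine mul_left_cancel₀ h3 ?_
    linear_combination h2
  have hB : ∑ ψ : IrrCharacter S, m ψ * charDegree (ψ : S → ℂ) = 356054375 := by
    have h2 : Ψ 1 = ((∑ ψ : IrrCharacter S, m ψ * charDegree (ψ : S → ℂ) : ℕ) : ℂ) := by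
      rw [hm]
      push_cast
      rw [Finset.sum_apply]
      refine Finset.sum_congr rfl fun ψ _ => ?_
      rw [Pi.smul_apply, nsmul_eq_mul, Cfsg.Agent.Blocks.Basic.irr_one_eq_charDegree ψ.2]
    rw [h0] at h2
    exact_mod_cast h2.symm
  obtain ⟨χ, hχ, -⟩ := exists_of_mult h ht m hA hB
  exact ⟨χ, hχ⟩

end Cfsg.Agent.H578.BM
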